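import Groth.Agent.Chow.Std
import Groth.Agent.S1616
import Groth.Agent.ProjMor.Over
import Groth.Agent.ProjMor.ProjSpaceBase
import Groth.Prelude.Def_CohB1

/-!
Chow's construction from a cover by dense opens immersed in projective spaces.
-/

universe u

open CategoryTheory Limits Opposite TopologicalSpace AlgebraicGeometry

set_option backward.isDefEq.respectTransparency false

noncomputable section

namespace Groth.Agent.Chow

variable {X S : Scheme.{u}}

theorem isProper_toBase (n : ℕ) (S : Scheme.{u}) : IsProper (CohB1.ProjSpaceOver.toBase n S) :=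
  MorphismProperty.pullback_snd _ _ (ProjMor.isProper_toSpec n (ULift.{u} ℤ))

/-- Finite products of projective spaces over `S` are closed in a projective space over `S`. -/
theorem exists_product (S : Scheme.{u}) : ∀ (m : ℕ) (n : Fin (m + 1) → ℕ),
    ∃ (N : ℕ) (Y : Scheme.{u}) (q : Y ⟶ S) (φ : Y ⟶ CohB1.ProjSpaceOver N S)
      (pr : ∀ i, Y ⟶ CohB1.ProjSpaceOver (n i) S), IsClosedImmersion φ ∧
      φ ≫ CohB1.ProjSpaceOver.toBase N S = q ∧ (∀ i, pr i ≫ CohB1.ProjSpaceOver.toBase (n i) S = q) ∧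
      ∀ (T : Scheme.{u}) (t : T ⟶ S) (g : ∀ i, T ⟶ CohB1.ProjSpaceOver (n i) S),
        (∀ i, g i ≫ CohB1.ProjSpaceOver.toBase (n i) S = t) →
          ∃ k : T ⟶ Y, k ≫ q = t ∧ ∀ i, k ≫ pr i = g i := by
  intro m
  induction m with
  | zero =>
    intro n
    refine ⟨n 0, _, CohB1.ProjSpaceOver.toBase (n 0) S, 𝟙 _,
      fun i => eqToHom (by rw [Fin.eq_zero i]), inferInstance, Category.id_comp _, fun i => ?_,
      fun T t g hg => ⟨g 0, hg 0, fun i => ?_⟩⟩
    · obtain rfl := Fin.eq_zero i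
      simp
    · obtain rfl := Fin.eq_zero i
      simp
  | succ m ih =>
    intro n
    obtain ⟨N, Y, q, φ, pr, hφ, hq, hpr, hlift⟩ := ih (fun i => n i.succ)
    let b := n 0
    obtain ⟨σ, hσ, hσb⟩ := Groth.Agent.S1616.result S N b
    let Y' := pullback q (CohB1.ProjSpaceOver.toBase b S)
    let m' : Y' ⟶ pullback (CohB1.ProjSpaceOver.toBase N S) (CohB1.ProjSpaceOver.toBase b S) :=
      pullback.map _ _ _ _ φ (𝟙 _) (𝟙 S) (by rw [Category.comp_id, hq]) (by rw [Category.comp_id, Category.id_comp])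
    have hm : IsClosedImmersion m' :=
      MorphismProperty.baseChange_map (P := @IsClosedImmersion) (CohB1.ProjSpaceOver.toBase b S)
        (show Over.mk q ⟶ Over.mk (CohB1.ProjSpaceOver.toBase N S) from Over.homMk φ hq) hφ
    refine ⟨N * b + N + b, Y', pullback.fst _ _ ≫ q, m' ≫ σ,
      Fin.cases (pullback.snd _ _) (fun i => pullback.fst _ _ ≫ pr i), inferInstance, ?_, ?_, ?_⟩
    · rw [Category.assoc, hσb, pullback.lift_fst_assoc, Category.assoc, hq]
    · refine Fin.cases ?_ (fun i => ?_)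
      · simp only [Fin.cases_zero]
        exact pullback.condition.symm
      · simp only [Fin.cases_succ, Category.assoc]
        rw [hpr i]
    · intro T t g hg
      obtain ⟨k, hk, hki⟩ := hlift T t (fun i => g i.succ) (fun i => hg i.succ)
      refine ⟨pullback.lift k (g 0) (hk.trans (hg 0).symm), by rw [pullback.lift_fst_assoc, hk], ?_⟩
      refine Fin.cases ?_ (fun i => ?_)
      · simp only [Fin.cases_zero]
        exact pullback.lift_snd _ _ _
      · simp only [Fin.cases_succ]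
        rw [pullback.lift_fst_assoc, hki]

/-- Chow's construction. -/
theorem exists_chow_of_cover (f : X ⟶ S) [IsSeparated f] {m : ℕ} (V : Fin (m + 1) → X.Opens)
    (hcov : ∀ x, ∃ i, x ∈ V i) (n : Fin (m + 1) → ℕ)
    (k : ∀ i, (V i).toScheme ⟶ CohB1.ProjSpaceOver (n i) S) (himm : ∀ i, IsImmersion (k i))
    (hk : ∀ i, k i ≫ CohB1.ProjSpaceOver.toBase (n i) S = (V i).ι ≫ f)
    (U : X.Opens) [QuasiCompact U.ι] (hU : ∀ i, U ≤ V i) (hdense : Dense (U : Set X)) :
    ∃ (N : ℕ) (X' : Scheme.{u}) (π : X' ⟶ X) (j : X' ⟶ CohB1.ProjSpaceOver N S),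
      IsImmersion j ∧ j ≫ CohB1.ProjSpaceOver.toBase N S = π ≫ f ∧ IsProper π ∧ Surjective π ∧
      IsIso (π ∣_ U) ∧ ∃ t : U.toScheme ⟶ X', t ≫ π = U.ι ∧ IsSchemeTheoreticallyDominant t ∧
        QuasiCompact t := by
  obtain ⟨N, Y, q, φ, pr, hφ, hq, hpr, hlift⟩ := exists_product S m n
  obtain ⟨kY, hkY, hkpr⟩ := hlift U.toScheme (U.ι ≫ f) (fun i => X.homOfLE (hU i) ≫ k i) fun i => by
    rw [Category.assoc, hk, Scheme.homOfLE_ι_assoc]
  have : IsProper q := by
    have := isProper_toBase N S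
    rw [← hq]
    infer_instance
  let ψ : U.toScheme ⟶ pullback f q := pullback.lift U.ι kY hkY.symm
  have : IsProper (pullback.fst f q) := MorphismProperty.pullback_fst _ _ ‹_›
  have : QuasiCompact (ψ ≫ pullback.fst f q) := by rw [pullback.lift_fst]; infer_instance
  have : QuasiCompact ψ := .of_comp ψ (pullback.fst f q)
  have ht := isSchemeTheoreticallyDominant_toImage ψ
  let t := ψ.toImage
  let π := ψ.imageι ≫ pullback.fst f q
  let qX := ψ.imageι ≫ pullback.snd f q
  have htπ : t ≫ π = U.ι := by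
    rw [ψ.toImage_imageι_assoc, pullback.lift_fst]
  have htq : t ≫ qX = kY := by
    rw [ψ.toImage_imageι_assoc, pullback.lift_snd]
  have hπq : π ≫ f = qX ≫ q := by
    simp only [π, qX, Category.assoc, pullback.condition]
  have hπ : IsProper π := inferInstanceAs (IsProper (ψ.imageι ≫ pullback.fst f q))
  have hpre : ∀ O : X.Opens, U ≤ O → t ⁻¹ᵁ (π ⁻¹ᵁ O) = ⊤ := fun O hO => by
    rw [← Scheme.Hom.comp_preimage, htπ, eq_top_iff]
    exact fun u _ => hO u.2
  -- isomorphism over `U`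
  obtain ⟨h, hh, hhd, -⟩ := exists_lift_open t (π ⁻¹ᵁ U) (hpre U le_rfl)
  have h1 : h ≫ (π ∣_ U) = 𝟙 _ := by
    rw [← cancel_mono U.ι, Category.assoc, morphismRestrict_ι, ← Category.assoc, hh, htπ, Category.id_comp]
  have hiso : IsIso (π ∣_ U) := by
    refine ⟨h, ?_, h1⟩
    have hab : (π ∣_ U) ≫ kY = (π ⁻¹ᵁ U).ι ≫ qX := ext_of_dense h q _ _ (by
      rw [Category.assoc, Category.assoc, hkY, morphismRestrict_ι_assoc, hπq]) (by
      rw [← Category.assoc, h1, Category.id_comp, ← Category.assoc, hh, htq])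
    rw [← cancel_mono ((π ⁻¹ᵁ U).ι ≫ ψ.imageι)]
    refine pullback.hom_ext ?_ ?_
    · simp only [Category.assoc, Category.id_comp]
      rw [reassoc_of% hh, htπ, morphismRestrict_ι]
    · simp only [Category.assoc, Category.id_comp]
      rw [reassoc_of% hh, htq]
      exact hab
  have hsurj : Surjective π := ⟨fun x => by
    have hx : x ∈ closure (Set.range π.base) := closure_mono (fun u hu => by
      exact ⟨t ⟨u, hu⟩, congrArg (fun g : U.toScheme ⟶ X => g.base ⟨u, hu⟩) htπ⟩) (hdense x)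
    rwa [π.isClosedMap.isClosed_range.closure_eq] at hx⟩
  refine ⟨N, ψ.image, π, qX ≫ φ, ?_, by rw [Category.assoc, hq, hπq], hπ, hsurj, hiso, t, htπ, ht, inferInstance⟩
  suffices IsImmersion qX from inferInstance
  refine ProjMor.isImmersion_of_forall qX fun x => ?_
  obtain ⟨i, hi⟩ := hcov (π.base x)
  have := himm i
  have := isProper_toBase (n i) S
  let O := (k i).coborderRange
  let Z := qX ⁻¹ᵁ (pr i ⁻¹ᵁ O)
  have htZ : t ≫ qX ≫ pr i = X.homOfLE (hU i) ≫ k i := by
    rw [← Category.assoc, htq, hkpr]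
  have htZ' : t ⁻¹ᵁ Z = ⊤ := by
    rw [← Scheme.Hom.comp_preimage, ← Scheme.Hom.comp_preimage, Category.assoc, htZ, eq_top_iff]
    intro u _
    exact subset_coborder ⟨_, rfl⟩
  refine ⟨pr i ⁻¹ᵁ O, ?_, ?_⟩
  · obtain ⟨h', hh', hh'd, -⟩ := exists_lift_open t (π ⁻¹ᵁ V i) (hpre _ (hU i))
    have hab : (π ∣_ V i) ≫ k i = (π ⁻¹ᵁ V i).ι ≫ qX ≫ pr i :=
      ext_of_dense h' (CohB1.ProjSpaceOver.toBase (n i) S) _ _ (by
        rw [Category.assoc, hk, morphismRestrict_ι_assoc, hπq]
        simp only [Category.assoc, hpr i]) (by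
        rw [← Category.assoc h' (π ⁻¹ᵁ V i).ι, hh', htZ, ← Category.assoc]
        congr 1
        rw [← cancel_mono (V i).ι, Category.assoc, morphismRestrict_ι, ← Category.assoc, hh', htπ,
          Scheme.homOfLE_ι])
    have : (qX ≫ pr i).base x = (k i).base ((π ∣_ V i).base ⟨x, hi⟩) :=
      (congrArg (fun g : (π ⁻¹ᵁ V i).toScheme ⟶ CohB1.ProjSpaceOver (n i) S => g.base ⟨x, hi⟩) hab).symm
    change (qX ≫ pr i).base x ∈ O
    rw [this]
    exact subset_coborder ⟨_, rfl⟩
  obtain ⟨hZ, hhZ, hhZd, -⟩ := exists_lift_open t Z htZ'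
  let cl := (k i).liftCoborder
  let p := O.ι ≫ CohB1.ProjSpaceOver.toBase (n i) S
  let c : (V i).toScheme ⟶ pullback f p :=
    pullback.lift (V i).ι cl (by rw [Scheme.Hom.liftCoborder_ι_assoc, hk])
  have : IsSeparated (pullback.snd f p) := MorphismProperty.pullback_snd _ _ ‹_›
  have : IsClosedImmersion (c ≫ pullback.snd f p) := by rw [pullback.lift_snd]; infer_instance
  have : IsClosedImmersion c := IsClosedImmersion.of_comp c (pullback.snd f p)
  let qi := (qX ∣_ (pr i ⁻¹ᵁ O)) ≫ (pr i ∣_ O)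
  obtain ⟨v, hv⟩ := exists_factor hZ c (pullback.lift (Z.ι ≫ π) qi (by
      simp only [qi, p, Category.assoc, morphismRestrict_ι_assoc, hpr i, hπq]; rfl)) (X.homOfLE (hU i)) (by
    refine pullback.hom_ext ?_ ?_
    · simp only [c, Category.assoc, pullback.lift_fst, Scheme.homOfLE_ι]
      rw [← Category.assoc, hhZ, htπ]
    · rw [← cancel_mono O.ι]
      simp only [c, qi, cl, Category.assoc, pullback.lift_snd,
        morphismRestrict_ι, morphismRestrict_ι_assoc]
      rw [reassoc_of% hhZ, htZ]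
      exact congrArg _ (Scheme.Hom.liftCoborder_ι _))
  have hv1 := congrArg (· ≫ pullback.fst f p) hv
  have hv2 := congrArg (· ≫ pullback.snd f p) hv
  simp only [c, Category.assoc, pullback.lift_fst, pullback.lift_snd] at hv1 hv2
  let u' := pullback.lift (f := pr i ∣_ O) (g := cl) (qX ∣_ (pr i ⁻¹ᵁ O)) v hv2.symm
  let θ : pullback (pr i ∣_ O) cl ⟶ pullback f q :=
    pullback.lift (pullback.snd _ _ ≫ (V i).ι) (pullback.fst _ _ ≫ (pr i ⁻¹ᵁ O).ι) (by
      simp only [Category.assoc]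
      rw [← hk i, ← hpr i, ← (k i).liftCoborder_ι, Category.assoc, ← reassoc_of% (pullback.condition (f := pr i ∣_ O) (g := cl)),
        morphismRestrict_ι_assoc])
  have hu : u' ≫ θ = Z.ι ≫ ψ.imageι := by
    refine pullback.hom_ext ?_ ?_
    · simp only [u', θ, Category.assoc, pullback.lift_fst, pullback.lift_snd_assoc, hv1]; rfl
    · simp only [u', θ, Category.assoc, pullback.lift_snd, pullback.lift_fst_assoc, morphismRestrict_ι]; rfl
  have : IsImmersion (u' ≫ θ) := by rw [hu]; infer_instance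
  have : IsImmersion u' := IsImmersion.of_comp u' θ
  have : IsClosedImmersion (pullback.fst (pr i ∣_ O) cl) :=
    MorphismProperty.pullback_fst (P := @IsClosedImmersion) _ _ inferInstance
  rw [← pullback.lift_fst (f := pr i ∣_ O) (g := cl) (qX ∣_ (pr i ⁻¹ᵁ O)) v hv2.symm]
  infer_instance

end Groth.Agent.Chow
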