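import Groth.Agent.ProjMor.VAmple
import Groth.Agent.TMul.GlobGen
import Groth.Prelude.Def_CohB1

/-!
A finite disjoint union of affine opens over affine opens is quasi-projective.
-/

universe u

open CategoryTheory Limits Opposite TopologicalSpace AlgebraicGeometry
open Groth.Agent.QC (res resO res_res res_smul res_self resO_resO)
open TMul (IsGen val homOf val_homOf)
open ProjMor (ev ev_res HasChartSections)

set_option backward.isDefEq.respectTransparency false

noncomputable section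

namespace Groth.Agent.Chow

variable {X S : Scheme.{u}}

lemma exists_glue {J : Type u} (B : J → X.Opens) (hB : ⨆ j, B j = ⊤)
    (hdisj : ∀ i j, i ≠ j → B i ⊓ B j = ⊥) (a : ∀ j, Γ(X, B j)) :
    ∃ c : Γ(X, ⊤), ∀ j, resO X (le_top : B j ≤ ⊤) c = a j := by
  obtain ⟨c, hc, -⟩ := X.sheaf.existsUnique_gluing' B ⊤ (fun j => homOfLE le_top) hB.ge a (fun i j => by
    rcases eq_or_ne i j with rfl | h
    · rfl
    · have : Subsingleton Γ(X, B i ⊓ B j) := by
        rw [hdisj i j h]
        exact CommRingCat.subsingleton_of_isTerminal X.sheaf.isTerminalOfEmpty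
      exact Subsingleton.elim (α := Γ(X, B i ⊓ B j)) _ _)
  exact ⟨c, hc⟩

theorem genLocus_unit (c : Γ(X, ⊤)) :
    CohB1.genLocus (Coh.structureModule X) (homOf (L := Coh.structureModule X) c) = X.basicOpen c := by
  have h := TMul.genLocus_inf (homOf (L := Coh.structureModule X) c) (TMul.isGen_one (⊤ : X.Opens))
    (c := c) ((val_homOf (L := Coh.structureModule X) c ⊤).trans
      ((res_self (Coh.structureModule X) le_rfl c).trans (mul_one c).symm))
  rwa [top_inf_eq] at h

/-- Chart sections on a disjoint union of affine pieces. -/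
theorem hasChartSections_of_pieces (f : X ⟶ S) [LocallyOfFiniteType f] {J : Type u} [Fintype J]
    (B : J → X.Opens) (V : J → S.Opens) (hB : ⨆ j, B j = ⊤) (hdisj : ∀ i j, i ≠ j → B i ⊓ B j = ⊥)
    (hBa : ∀ j, IsAffineOpen (B j)) (hVa : ∀ j, IsAffineOpen (V j)) (hle : ∀ j, B j ≤ f ⁻¹ᵁ V j) :
    HasChartSections f (Coh.structureModule X) := by
  classical
  have hG : ∀ j, ∃ G : Finset Γ(X, B j),
      Subring.closure (Set.range (ev f (V j) (B j) (hle j)) ∪ (G : Set Γ(X, B j))) = ⊤ := fun j => by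
    have h := f.finiteType_appLE (hVa j) (hBa j) (hle j)
    let := (f.appLE (V j) (B j) (hle j)).hom.toAlgebra
    obtain ⟨G, hG⟩ := (h : Algebra.FiniteType Γ(S, V j) Γ(X, B j)).out
    refine ⟨G, ?_⟩
    have e := congrArg Subalgebra.toSubring hG
    rw [Algebra.adjoin_eq_ring_closure, Algebra.top_toSubring] at e
    exact e
  choose G hG using hG
  choose e he using fun j => exists_glue B hB hdisj fun i => if i = j then 1 else 0
  choose g hg using fun (j : J) (a : G j) => exists_glue B hB hdisj fun i =>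
    if h : j = i then (h ▸ (a.1 : Γ(X, B j)) : Γ(X, B i)) else 0
  have hloc : ∀ j, CohB1.genLocus (Coh.structureModule X) (homOf (L := Coh.structureModule X) (e j)) = B j := by
    intro j
    rw [genLocus_unit]
    refine le_antisymm (fun x hx => ?_) fun x hx => ?_
    · obtain ⟨i, hi⟩ := Opens.mem_iSup.1 (hB.ge (trivial : x ∈ (⊤ : X.Opens)))
      have h1 : x ∈ X.basicOpen (resO X (le_top : B i ≤ ⊤) (e j)) :=
        (X.basicOpen_res (e j) (homOfLE (le_top : B i ≤ ⊤)).op).ge ⟨hi, hx⟩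
      rcases eq_or_ne i j with rfl | hne
      · exact hi
      · rw [he j i, if_neg hne, Scheme.basicOpen_zero] at h1
        exact h1.elim
    · have h1 : x ∈ X.basicOpen (resO X (le_top : B j ≤ ⊤) (e j)) := by
        rw [he j j, if_pos rfl, Scheme.basicOpen_of_isUnit _ isUnit_one]
        exact hx
      exact ((X.basicOpen_res (e j) (homOfLE (le_top : B j ≤ ⊤)).op).le h1).2
  let s : (J ⊕ Σ j, G j) → Γ(Coh.structureModule X, ⊤) := Sum.elim e fun a => g a.1 a.2
  refine ⟨J ⊕ Σ j, G j, inferInstance, s, fun x => ?_⟩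
  obtain ⟨j, hj⟩ := Opens.mem_iSup.1 (hB.ge (trivial : x ∈ (⊤ : X.Opens)))
  refine ⟨Sum.inl j, V j, (hloc j).le.trans (hle j), (hloc j).ge hj, hVa j, (hloc j).symm ▸ hBa j, ?_⟩
  suffices ∀ (W : X.Opens) (_ : W = B j) (h2 : W ≤ f ⁻¹ᵁ V j),
      Subring.closure (Set.range (ev f (V j) W h2) ∪
        {c | ∃ k, c • res (Coh.structureModule X) (le_top : W ≤ ⊤) (s (Sum.inl j)) =
          res (Coh.structureModule X) (le_top : W ≤ ⊤) (s k)}) = ⊤
    from this _ (hloc j) _
  rintro W rfl h2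
  rw [eq_top_iff, ← hG j]
  refine Subring.closure_mono (Set.union_subset_union le_rfl fun a ha => ⟨Sum.inr ⟨j, ⟨a, ha⟩⟩, ?_⟩)
  change a * resO X (le_top : B j ≤ ⊤) (e j) = resO X (le_top : B j ≤ ⊤) (g j ⟨a, ha⟩)
  rw [he j j, if_pos rfl, hg j ⟨a, ha⟩ j, dif_pos rfl, mul_one]

/-- A disjoint union of affine pieces immerses in a projective space. -/
theorem exists_immersion_of_pieces (f : X ⟶ S) [LocallyOfFiniteType f] {J : Type u} [Fintype J]
    (B : J → X.Opens) (V : J → S.Opens) (hB : ⨆ j, B j = ⊤) (hdisj : ∀ i j, i ≠ j → B i ⊓ B j = ⊥)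
    (hBa : ∀ j, IsAffineOpen (B j)) (hVa : ∀ j, IsAffineOpen (V j)) (hle : ∀ j, B j ≤ f ⁻¹ᵁ V j) :
    ∃ (n : ℕ) (k : X ⟶ CohB1.ProjSpaceOver n S), IsImmersion k ∧
      k ≫ CohB1.ProjSpaceOver.toBase n S = f := by
  obtain ⟨n, k, hk, hkf, -⟩ := ProjMor.isRelVeryAmplePn_of_chartSections f
    (TMul.isInvertible_structureModule (X := X))
    (hasChartSections_of_pieces f B V hB hdisj hBa hVa hle)
  exact ⟨n, k, hk, hkf⟩

end Groth.Agent.Chow
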