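import Groth.Agent.Chow.Core
import Groth.Agent.Chow.Pieces
import Mathlib.AlgebraicGeometry.Noetherian

/-!
Chow's lemma for schemes with finitely many irreducible components.
-/

universe u

open CategoryTheory Limits Opposite TopologicalSpace AlgebraicGeometry

set_option backward.isDefEq.respectTransparency false

noncomputable section

namespace Groth.Agent.Chow

variable {X S : Scheme.{u}}

lemma exists_mem_not_mem_of_finite {C : Set X} (hfin : (irreducibleComponents X).Finite)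
    (hC : C ∈ irreducibleComponents X) :
    ∃ x ∈ C, ∀ D ∈ irreducibleComponents X, x ∈ D → D = C := by
  classical
  by_contra h
  push Not at h
  have hsub : C ⊆ ⋃₀ (hfin.toFinset.erase C : Set (Set X)) := fun x hx => by
    obtain ⟨D, hD, hxD, hne⟩ := h x hx
    exact Set.mem_sUnion.2 ⟨D, Finset.mem_coe.2 (Finset.mem_erase.2 ⟨hne, hfin.mem_toFinset.2 hD⟩), hxD⟩
  obtain ⟨D, hD, hCD⟩ := isIrreducible_iff_sUnion_isClosed.1 hC.1 _ (fun D hD =>
    isClosed_of_mem_irreducibleComponents D (hfin.mem_toFinset.1 (Finset.mem_erase.1 hD).2)) hsub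
  exact (Finset.mem_erase.1 hD).1 ((hC.2 (hfin.mem_toFinset.1 (Finset.mem_erase.1 hD).2).1 hCD).antisymm hCD)

/-- An affine open over an affine open is contained in a dense open immersed in a projective space. -/
theorem exists_dense_piece (f : X ⟶ S) [LocallyOfFiniteType f] (hfin : (irreducibleComponents X).Finite)
    {A : X.Opens} (hA : IsAffineOpen A) {V : S.Opens} (hV : IsAffineOpen V) (hAV : A ≤ f ⁻¹ᵁ V) :
    ∃ W : X.Opens, A ≤ W ∧ Dense (W : Set X) ∧ IsCompact (W : Set X) ∧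
      ∃ (n : ℕ) (k : W.toScheme ⟶ CohB1.ProjSpaceOver n S), IsImmersion k ∧
        k ≫ CohB1.ProjSpaceOver.toBase n S = W.ι ≫ f := by
  classical
  let J₀ : Set (Set X) := {C | C ∈ irreducibleComponents X ∧ Disjoint C (A : Set X)}
  have : Finite J₀ := (hfin.subset fun C hC => hC.1).to_subtype
  have : Fintype J₀ := Fintype.ofFinite _
  have hex : ∀ C : J₀, ∃ (B : X.Opens) (V' : S.Opens), IsAffineOpen B ∧ IsAffineOpen V' ∧ B ≤ f ⁻¹ᵁ V' ∧
      (B : Set X).Nonempty ∧ ∀ x ∈ B, ∀ D ∈ irreducibleComponents X, x ∈ D → D = C.1 := fun C => by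
    obtain ⟨x, hxC, hx⟩ := exists_mem_not_mem_of_finite hfin C.2.1
    let O : X.Opens := ⟨(⋃ D ∈ hfin.toFinset.erase C.1, D)ᶜ, (isClosed_biUnion_finset fun D hD =>
      isClosed_of_mem_irreducibleComponents D (hfin.mem_toFinset.1 (Finset.mem_erase.1 hD).2)).isOpen_compl⟩
    obtain ⟨V', hV', hfx, -⟩ := exists_isAffineOpen_mem_and_subset (x := f.base x) (U := (⊤ : S.Opens)) trivial
    obtain ⟨B, hB, hxB, hBle⟩ := exists_isAffineOpen_mem_and_subset (x := x) (U := O ⊓ f ⁻¹ᵁ V') ⟨fun h => by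
      obtain ⟨D, hD, hxD⟩ := Set.mem_iUnion₂.1 h
      exact (Finset.mem_erase.1 hD).1 (hx D (hfin.mem_toFinset.1 (Finset.mem_erase.1 hD).2) hxD), hfx⟩
    refine ⟨B, V', hB, hV', fun y hy => (hBle hy).2, ⟨x, hxB⟩, fun y hy D hD hyD => ?_⟩
    by_contra hne
    exact (hBle hy).1 (Set.mem_iUnion₂.2 ⟨D, Finset.mem_erase.2 ⟨hne, hfin.mem_toFinset.2 hD⟩, hyD⟩)
  choose B V' hB hV' hBle hBne hBmem using hex
  let P : Option J₀ → X.Opens := fun o => o.elim A B
  have hPa : ∀ o, IsAffineOpen (P o) := fun o => o.casesOn hA hB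
  let W : X.Opens := ⨆ o, P o
  have hle : ∀ o, P o ≤ W := le_iSup P
  have hcomp : ∀ y : X, irreducibleComponent y ∈ irreducibleComponents X :=
    irreducibleComponent_mem_irreducibleComponents
  have hdisj : ∀ o o', o ≠ o' → P o ⊓ P o' = ⊥ := by
    intro o o' hne
    refine eq_bot_iff.2 fun y hy => ?_
    rcases o with _ | C <;> rcases o' with _ | C'
    · exact absurd rfl hne
    · exact (Set.disjoint_left.1 C'.2.2 (hBmem C' y hy.2 _ (hcomp y) mem_irreducibleComponent ▸ mem_irreducibleComponent) hy.1).elim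
    · exact (Set.disjoint_left.1 C.2.2 (hBmem C y hy.1 _ (hcomp y) mem_irreducibleComponent ▸ mem_irreducibleComponent) hy.2).elim
    · exact absurd (congrArg some (Subtype.ext ((hBmem C y hy.1 _ (hcomp y) mem_irreducibleComponent).symm.trans
        (hBmem C' y hy.2 _ (hcomp y) mem_irreducibleComponent)))) hne
  refine ⟨W, hle none, ?_, ?_, ?_⟩
  · refine dense_iff_inter_open.2 fun O hO ⟨z, hz⟩ => ?_
    by_cases hA' : Disjoint (irreducibleComponent z) (A : Set X)
    · let C : J₀ := ⟨irreducibleComponent z, hcomp z, hA'⟩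
      obtain ⟨b, hb⟩ := hBne C
      have hbz : b ∈ irreducibleComponent z :=
        ((hBmem C b hb _ (hcomp b) mem_irreducibleComponent).le : irreducibleComponent b ⊆ irreducibleComponent z)
          mem_irreducibleComponent
      obtain ⟨w, -, hw1, hw2⟩ := isIrreducible_irreducibleComponent.2 O (B C : Set X) hO (B C).2
        ⟨z, mem_irreducibleComponent, hz⟩ ⟨b, hbz, hb⟩
      exact ⟨w, hw1, hle (some C) hw2⟩
    · obtain ⟨a, ha, ha'⟩ := Set.not_disjoint_iff.1 hA'
      obtain ⟨w, -, hw1, hw2⟩ := isIrreducible_irreducibleComponent.2 O (A : Set X) hO A.2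
        ⟨z, mem_irreducibleComponent, hz⟩ ⟨a, ha, ha'⟩
      exact ⟨w, hw1, hle none hw2⟩
  · rw [Opens.coe_iSup]
    exact isCompact_iUnion fun o => (hPa o).isCompact
  · have : Fintype (Option J₀) := inferInstance
    refine exists_immersion_of_pieces (W.ι ≫ f) (fun o : Option J₀ => W.ι ⁻¹ᵁ P o)
      (fun o => o.elim V V') ?_ ?_ ?_ (fun o => o.casesOn hV hV') ?_
    · rw [eq_top_iff]
      rintro ⟨y, hy⟩ -
      obtain ⟨o, ho⟩ := Opens.mem_iSup.1 hy
      exact Opens.mem_iSup.2 ⟨o, ho⟩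
    · intro o o' hne
      rw [← Scheme.Hom.preimage_inf, hdisj o o' hne, Scheme.Hom.preimage_bot]
    · intro o
      rw [← W.ι.isAffineOpen_iff_of_isOpenImmersion, Scheme.Hom.image_preimage_eq_opensRange_inf,
        Scheme.Opens.opensRange_ι, inf_eq_right.mpr (hle o)]
      exact hPa o
    · intro o y hy
      rcases o with _ | C
      · exact hAV hy
      · exact hBle C hy

/-- Chow's lemma. -/
theorem exists_chow (f : X ⟶ S) [IsSeparated f] [LocallyOfFiniteType f] [CompactSpace X]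
    [QuasiSeparatedSpace X] (hfin : (irreducibleComponents X).Finite) :
    ∃ (N : ℕ) (X' : Scheme.{u}) (π : X' ⟶ X) (j : X' ⟶ CohB1.ProjSpaceOver N S),
      IsImmersion j ∧ j ≫ CohB1.ProjSpaceOver.toBase N S = π ≫ f ∧ IsProper π ∧ Surjective π ∧
      ∃ U : X.Opens, Dense (U : Set X) ∧ IsIso (π ∣_ U) ∧ ∃ t : U.toScheme ⟶ X', t ≫ π = U.ι ∧
        IsSchemeTheoreticallyDominant t ∧ QuasiCompact t := by
  classical
  choose V hV hfx hV' using fun x : X =>
    exists_isAffineOpen_mem_and_subset (x := f.base x) (U := (⊤ : S.Opens)) trivial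
  choose A hA hxA hAV using fun x : X =>
    exists_isAffineOpen_mem_and_subset (x := x) (U := f ⁻¹ᵁ V x) (hfx x)
  obtain ⟨T, hT⟩ := isCompact_univ.elim_finite_subcover (fun x : X => (A x : Set X)) (fun x => (A x).2)
    (fun x _ => Set.mem_iUnion.mpr ⟨x, hxA x⟩)
  let A' : Fin (T.card + 1) → X.Opens := Fin.cons ⊥ fun i => A (T.equivFin.symm i)
  let V' : Fin (T.card + 1) → S.Opens := Fin.cons ⊥ fun i => V (T.equivFin.symm i)
  have hA' : ∀ i, IsAffineOpen (A' i) := Fin.cases (isAffineOpen_bot X) fun i => hA _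
  have hV'' : ∀ i, IsAffineOpen (V' i) := Fin.cases (isAffineOpen_bot S) fun i => hV _
  have hAV' : ∀ i, A' i ≤ f ⁻¹ᵁ V' i := Fin.cases bot_le fun i => hAV _
  choose W hAW hWd hWc n k hk hkf using fun i => exists_dense_piece f hfin (hA' i) (hV'' i) (hAV' i)
  have hcov : ∀ x, ∃ i, x ∈ W i := fun x => by
    obtain ⟨y, hy, hxy⟩ := Set.mem_iUnion₂.mp (hT (Set.mem_univ x))
    refine ⟨(T.equivFin ⟨y, hy⟩).succ, hAW _ ?_⟩
    simp only [A', Fin.cons_succ, Equiv.symm_apply_apply]
    exact hxy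
  have key : ∀ s : Finset (Fin (T.card + 1)),
      IsCompact ((s.inf W : X.Opens) : Set X) ∧ Dense ((s.inf W : X.Opens) : Set X) := by
    intro s
    induction s using Finset.induction_on with
    | empty => simp [isCompact_univ]
    | insert i s hi ih =>
      rw [Finset.inf_insert]
      exact ⟨(hWc i).inter_of_isOpen ih.1 (W i).2 (s.inf W).2, (hWd i).inter_of_isOpen_left ih.2 (W i).2⟩
  let U : X.Opens := Finset.univ.inf W
  have : QuasiCompact U.ι := by
    refine ⟨fun O hO hOc => ?_⟩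
    rw [U.ι.isOpenEmbedding.isInducing.isCompact_iff, Set.image_preimage_eq_inter_range, Scheme.Opens.range_ι]
    exact hOc.inter_of_isOpen (key Finset.univ).1 hO U.2
  obtain ⟨N, X', π, j, hj, hjf, hπ, hs, hiso, ht⟩ := exists_chow_of_cover f W hcov n k hk hkf U
    (fun i => Finset.inf_le (Finset.mem_univ i)) (key Finset.univ).2
  exact ⟨N, X', π, j, hj, hjf, hπ, hs, U, (key Finset.univ).2, hiso, ht⟩

end Groth.Agent.Chow
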