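import Groth.Agent.Chow.Core
import Groth.Agent.Chow.Pieces

/-!
Chow's lemma without finiteness of irreducible components: finitely many proper maps from
quasi-projective schemes, jointly surjective.
-/

universe u

open CategoryTheory Limits Opposite TopologicalSpace AlgebraicGeometry

set_option backward.isDefEq.respectTransparency false
set_option linter.style.haveILetI false

noncomputable section

namespace Groth.Agent.Chow

/-- Finitely many quasi-projective schemes, proper and jointly surjective over the given one. -/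
theorem exists_chow_cover {X S : Scheme.{u}} (f : X ⟶ S) [IsSeparated f] [LocallyOfFiniteType f]
    [CompactSpace X] [QuasiSeparatedSpace X] :
    ∃ (ι : Type u) (_ : Finite ι) (N : ι → ℕ) (P : ι → Scheme.{u}) (π : ∀ k, P k ⟶ X)
      (j : ∀ k, P k ⟶ CohB1.ProjSpaceOver (N k) S),
      (∀ k, IsImmersion (j k)) ∧ (∀ k, j k ≫ CohB1.ProjSpaceOver.toBase (N k) S = π k ≫ f) ∧
      (∀ k, IsProper (π k)) ∧ ∀ x, ∃ k p, π k p = x := by
  classical
  choose V hV hfx hV' using fun x : X =>
    exists_isAffineOpen_mem_and_subset (x := f.base x) (U := (⊤ : S.Opens)) trivial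
  choose A hA hxA hAV using fun x : X =>
    exists_isAffineOpen_mem_and_subset (x := x) (U := f ⁻¹ᵁ V x) (hfx x)
  obtain ⟨T, hT⟩ := isCompact_univ.elim_finite_subcover (fun x : X => (A x : Set X)) (fun x => (A x).2)
    (fun x _ => Set.mem_iUnion.mpr ⟨x, hxA x⟩)
  have key : ∀ J : {J : Finset T // J.Nonempty}, ∃ (N : ℕ) (P : Scheme.{u}) (π : P ⟶ X)
      (j : P ⟶ CohB1.ProjSpaceOver N S), IsImmersion j ∧
      j ≫ CohB1.ProjSpaceOver.toBase N S = π ≫ f ∧ IsProper π ∧
      ∀ x, (∀ t : T, x ∈ A t.1 ↔ t ∈ J.1) → ∃ p, π p = x := by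
    rintro ⟨J, hJ⟩
    let E : Set X := {x | ∀ t : T, x ∈ A t.1 ↔ t ∈ J}
    let Z := (Scheme.IdealSheafData.vanishingIdeal (⟨closure E, isClosed_closure⟩ : Closeds X)).subscheme
    let ι : Z ⟶ X := (Scheme.IdealSheafData.vanishingIdeal (⟨closure E, isClosed_closure⟩ : Closeds X)).subschemeι
    have hι : Set.range ι = closure E := by
      rw [Scheme.IdealSheafData.range_subschemeι, Scheme.IdealSheafData.coe_support_vanishingIdeal]
      rfl
    haveI : CompactSpace Z := QuasiCompact.compactSpace_of_compactSpace ι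
    haveI : QuasiSeparatedSpace Z := quasiSeparatedSpace_of_quasiSeparated ι
    have hcov : ∀ z : Z, ∃ t ∈ J, ι z ∈ A (t : T).1 := fun z => by
      obtain ⟨t, ht, hzt⟩ := Set.mem_iUnion₂.mp (hT (Set.mem_univ (ι z)))
      obtain ⟨e, het, he⟩ := mem_closure_iff.mp (hι.le ⟨z, rfl⟩) _ (A t).2 hzt
      exact ⟨⟨t, ht⟩, (he _).mp het, hzt⟩
    obtain ⟨m, hm⟩ : ∃ m, J.card = m + 1 := ⟨J.card - 1, by have := hJ.card_pos; omega⟩
    let e : Fin (m + 1) ≃ J := (finCongr hm.symm).trans J.equivFin.symm
    let W : Fin (m + 1) → Z.Opens := fun i => ι ⁻¹ᵁ A (e i).1.1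
    have hWa : ∀ i, IsAffineOpen (W i) := fun i => (hA _).preimage ι
    have him : ∀ i, ∃ (n : ℕ) (k : (W i).toScheme ⟶ CohB1.ProjSpaceOver n S), IsImmersion k ∧
        k ≫ CohB1.ProjSpaceOver.toBase n S = (W i).ι ≫ ι ≫ f := fun i => by
      refine exists_immersion_of_pieces ((W i).ι ≫ ι ≫ f) (fun _ : PUnit.{u + 1} => (⊤ : (W i).toScheme.Opens))
        (fun _ => V (e i).1.1) (iSup_const) (fun a b h => (h (Subsingleton.elim a b)).elim) ?_
        (fun _ => hV _) ?_
      · intro _
        haveI : IsAffine (W i).toScheme := hWa i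
        exact isAffineOpen_top _
      · intro _ y _
        exact hAV _ y.2
    choose n k hk hkf using him
    let U : Z.Opens := ⨅ i, W i
    have hUc : IsCompact (U : Set Z) := by
      have : ∀ s : Finset (Fin (m + 1)), IsCompact ((s.inf W : Z.Opens) : Set Z) := by
        intro s
        induction s using Finset.induction_on with
        | empty => simp [isCompact_univ]
        | insert i s hi ih =>
          rw [Finset.inf_insert]
          exact (hWa i).isCompact.inter_of_isOpen ih (W i).2 (s.inf W).2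
      have h := this Finset.univ
      rwa [Finset.inf_univ_eq_iInf] at h
    have : QuasiCompact U.ι := by
      refine ⟨fun O hO hOc => ?_⟩
      rw [U.ι.isOpenEmbedding.isInducing.isCompact_iff, Set.image_preimage_eq_inter_range,
        Scheme.Opens.range_ι]
      exact hOc.inter_of_isOpen hUc hO U.2
    have hEU : ι ⁻¹' E ⊆ (U : Set Z) := fun z hz => by
      rw [Opens.coe_iInf]
      exact Set.mem_iInter.mpr fun i => (hz _).mpr (e i).2
    have hdense : Dense (U : Set Z) := by
      refine Dense.mono hEU ?_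
      rw [ι.isClosedEmbedding.isInducing.dense_iff]
      intro z
      rw [Set.image_preimage_eq_inter_range, hι, Set.inter_eq_left.mpr subset_closure]
      exact hι.le ⟨z, rfl⟩
    obtain ⟨N, P, π, j, hj, hjf, hπ, hs, -⟩ := exists_chow_of_cover (ι ≫ f) W
      (fun z => by
        obtain ⟨t, ht, hzt⟩ := hcov z
        refine ⟨e.symm ⟨t, ht⟩, ?_⟩
        show ι z ∈ A (e (e.symm ⟨t, ht⟩)).1.1
        rwa [e.apply_symm_apply])
      n k hk hkf U (fun i => iInf_le W i) hdense
    haveI := hπ; haveI := hs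
    refine ⟨N, P, π ≫ ι, j, hj, by rw [hjf, Category.assoc], inferInstance, fun x hx => ?_⟩
    obtain ⟨z, rfl⟩ := hι.ge (subset_closure (show x ∈ E from hx))
    obtain ⟨p, rfl⟩ := π.surjective z
    exact ⟨p, rfl⟩
  choose N P π j hj hjf hπ hsurj using key
  refine ⟨{J : Finset T // J.Nonempty}, inferInstance, N, P, π, j, hj, hjf, hπ, fun x => ?_⟩
  obtain ⟨t, ht, hxt⟩ := Set.mem_iUnion₂.mp (hT (Set.mem_univ x))
  let J : {J : Finset T // J.Nonempty} :=
    ⟨Finset.univ.filter fun t : T => x ∈ A t.1, ⟨⟨t, ht⟩, Finset.mem_filter.mpr ⟨Finset.mem_univ _, hxt⟩⟩⟩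
  exact ⟨J, hsurj J x fun t => by simp [J]⟩

end Groth.Agent.Chow
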