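import Mathlib.AlgebraicGeometry.Morphisms.SchemeTheoreticallyDominant
import Mathlib.AlgebraicGeometry.Morphisms.ClosedImmersion
import Mathlib.AlgebraicGeometry.Morphisms.Immersion

/-!
Scheme-theoretic density and extension of factorisations.
-/

universe u

open CategoryTheory Limits Opposite TopologicalSpace AlgebraicGeometry

noncomputable section

namespace Groth.Agent.Chow

variable {U X Y S : Scheme.{u}}

/-- The map to the scheme-theoretic image is scheme-theoretically dominant. -/
theorem isSchemeTheoreticallyDominant_toImage (f : X ⟶ Y) [QuasiCompact f] :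
    IsSchemeTheoreticallyDominant f.toImage := by
  refine ⟨Scheme.IdealSheafData.ext_of_iSup_eq_top
    (fun V : Y.affineOpens => ⟨f.imageι ⁻¹ᵁ V.1, V.2.preimage f.imageι⟩) ?_ fun V => ?_⟩
  · rw [← Scheme.Hom.preimage_iSup, iSup_affineOpens_eq_top, Scheme.Hom.preimage_top]
  · rw [Scheme.Hom.ker_apply, Scheme.IdealSheafData.ideal_bot]
    exact (RingHom.injective_iff_ker_eq_bot _).mp (f.toImage_app_injective V)

/-- A scheme-theoretically dominant map into an open containing its image. -/
theorem exists_lift_open (t : U ⟶ X) [IsSchemeTheoreticallyDominant t] [QuasiCompact t] (O : X.Opens)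
    (hO : t ⁻¹ᵁ O = ⊤) :
    ∃ h : U ⟶ O.toScheme, h ≫ O.ι = t ∧ IsSchemeTheoreticallyDominant h ∧ QuasiCompact h := by
  have : IsIso (t ⁻¹ᵁ O).ι := by rw [hO]; exact inferInstanceAs (IsIso U.topIso.hom)
  have : IsSchemeTheoreticallyDominant (t ∣_ O) :=
    IsSchemeTheoreticallyDominant.of_isPullback (isPullback_morphismRestrict t O).flip
  have : QuasiCompact (t ∣_ O) := IsZariskiLocalAtTarget.restrict (P := @QuasiCompact) ‹_› O
  refine ⟨inv (t ⁻¹ᵁ O).ι ≫ (t ∣_ O), ?_, inferInstance, inferInstance⟩
  rw [Category.assoc, morphismRestrict_ι, IsIso.inv_hom_id_assoc]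

/-- A factorisation through a closed immersion extends from a scheme-theoretically dominant map. -/
theorem exists_factor (h : U ⟶ X) [IsSchemeTheoreticallyDominant h] {Z : Scheme.{u}} (c : Z ⟶ Y)
    [IsClosedImmersion c] (a : X ⟶ Y) (u : U ⟶ Z) (hu : u ≫ c = h ≫ a) :
    ∃ v : X ⟶ Z, v ≫ c = a := by
  let e := pullback.fst a c
  have : IsClosedImmersion e :=
    MorphismProperty.of_isPullback (P := @IsClosedImmersion) (IsPullback.of_hasPullback a c).flip ‹_›
  have he : IsIso e := IsClosedImmersion.isIso_iff_ker_eq_bot.mpr (le_bot_iff.mp (by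
    refine (Scheme.Hom.le_ker_comp (pullback.lift h u hu.symm) e).trans ?_
    rw [pullback.lift_fst, h.ker_eq_bot]))
  exact ⟨inv e ≫ pullback.snd a c, by rw [Category.assoc, ← pullback.condition, IsIso.inv_hom_id_assoc]⟩

/-- Maps to a separated scheme agreeing on a scheme-theoretically dense part agree. -/
theorem ext_of_dense (h : U ⟶ X) [IsSchemeTheoreticallyDominant h] (p : Y ⟶ S) [IsSeparated p]
    (a b : X ⟶ Y) (hp : a ≫ p = b ≫ p) (hh : h ≫ a = h ≫ b) : a = b := by
  obtain ⟨v, hv⟩ := exists_factor h (pullback.diagonal p) (pullback.lift a b hp) (h ≫ a) (by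
    ext <;> simp [hh, pullback.lift_fst, pullback.lift_snd])
  have h1 := congrArg (· ≫ pullback.fst p p) hv
  have h2 := congrArg (· ≫ pullback.snd p p) hv
  simp only [Category.assoc, pullback.diagonal_fst, pullback.diagonal_snd, Category.comp_id,
    pullback.lift_fst, pullback.lift_snd] at h1 h2
  exact h1.symm.trans h2

end Groth.Agent.Chow
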