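import Groth.Agent.Chow.Cover
import Groth.Agent.SymAlg.ProjHProj

/-!
Chow's lemma with projective conclusions.
-/

universe u

open CategoryTheory Limits Opposite TopologicalSpace AlgebraicGeometry

set_option backward.isDefEq.respectTransparency false
set_option linter.style.haveILetI false

noncomputable section

namespace Groth.Agent.Chow

variable {X X' S : Scheme.{u}}

/-- A proper `π` with `π ≫ f` immersed in projective space over `S` is projective. -/
theorem isProjective_of_immersion {N : ℕ} (π : X' ⟶ X) [IsProper π] (f : X ⟶ S)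
    (j : X' ⟶ CohB1.ProjSpaceOver N S) [IsImmersion j]
    (h : j ≫ CohB1.ProjSpaceOver.toBase N S = π ≫ f) : RelProj.IsProjective π := by
  let t := CohB1.ProjSpace.toSpec N (ULift.{u} ℤ)
  let a : CohB1.ProjSpaceOver N X ⟶ CohB1.ProjSpaceOver N S :=
    pullback.map t (specULiftZIsTerminal.from X) t (specULiftZIsTerminal.from S) (𝟙 _) f (𝟙 _)
      (by simp) (specULiftZIsTerminal.hom_ext _ _)
  have hsq : IsPullback a (CohB1.ProjSpaceOver.toBase N X) (CohB1.ProjSpaceOver.toBase N S) f := by
    refine IsPullback.of_right (h₁₂ := pullback.fst t (specULiftZIsTerminal.from S))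
      (h₂₂ := specULiftZIsTerminal.from S) (v₁₃ := t) ?_ ?_ (IsPullback.of_hasPullback _ _)
    · have e1 : a ≫ pullback.fst t (specULiftZIsTerminal.from S) = pullback.fst t (specULiftZIsTerminal.from X) := by
        simp [a]
      have e2 : f ≫ specULiftZIsTerminal.from S = specULiftZIsTerminal.from X := specULiftZIsTerminal.hom_ext _ _
      rw [e1, e2]
      exact IsPullback.of_hasPullback _ _
    · exact pullback.lift_snd _ _ _
  let j' : X' ⟶ CohB1.ProjSpaceOver N X := hsq.lift j π h
  haveI : IsImmersion (j' ≫ a) := by rw [hsq.lift_fst]; infer_instance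
  haveI : IsImmersion j' := IsImmersion.of_comp j' a
  haveI := Groth.Agent.Chow.isProper_toBase N X
  haveI : IsProper (j' ≫ CohB1.ProjSpaceOver.toBase N X) := by rw [hsq.lift_snd]; infer_instance
  haveI : IsProper j' := IsProper.of_comp j' (CohB1.ProjSpaceOver.toBase N X)
  exact Groth.Agent.SymAlg.isProjective_of_isHProjective ⟨N, j',
    IsClosedImmersion.of_isPreimmersion j' j'.isClosedMap.isClosed_range, hsq.lift_snd _ _ _⟩

/-- An immersion into projective space gives quasi-projectivity. -/
theorem isQuasiProjective_of_immersion {N : ℕ} (g : X' ⟶ S) [LocallyOfFiniteType g] [QuasiCompact g]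
    (j : X' ⟶ CohB1.ProjSpaceOver N S) [IsImmersion j] (h : j ≫ CohB1.ProjSpaceOver.toBase N S = g) :
    RelProj.IsQuasiProjective g := by
  obtain ⟨-, L, hL⟩ := Groth.Agent.SymAlg.isProper_and_ftData_of_isProjective
    (Groth.Agent.SymAlg.isProjective_toBase N S)
  have hv := Groth.Agent.SymAlg.isRelVeryAmple_comp_immersion j hL.isRelVeryAmple
  rw [h] at hv
  exact ⟨inferInstance, inferInstance, _,
    Groth.Agent.SymAlg.isRelAmple_of_isRelVeryAmple g (PicLoc.isInvertible_pullback j hL.1) hv⟩

/-- Chow's lemma for finitely many irreducible components. -/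
theorem exists_chow_projective (r : X ⟶ S) [IsSeparated r] [LocallyOfFiniteType r] [QuasiCompact r]
    [CompactSpace X] [QuasiSeparatedSpace X] (hfin : (irreducibleComponents X).Finite) :
    ∃ (X' : Scheme.{u}) (f : X' ⟶ X),
      RelProj.IsQuasiProjective (f ≫ r) ∧ RelProj.IsProjective f ∧ Surjective f ∧
      (IsProper r → RelProj.IsProjective (f ≫ r)) ∧
      (∃ U : X.Opens, Dense (U : Set X) ∧ Dense ((f ⁻¹ᵁ U : X'.Opens) : Set X') ∧ IsIso (f ∣_ U)) ∧
      (IsReduced X → IsReduced X') ∧ (IrreducibleSpace X → IrreducibleSpace X') := by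
  obtain ⟨N, X', π, j, hj, hjf, hπ, hs, U, hU, hiso, t, ht, htd, htq⟩ := exists_chow r hfin
  have hd : Dense (Set.range t.base) :=
    (inferInstance : IsDominant t).denseRange
  refine ⟨X', π, isQuasiProjective_of_immersion _ j hjf, isProjective_of_immersion π r j hjf, hs,
    fun hr => ?_, ⟨U, hU, ?_, hiso⟩, fun hX => ?_, fun hX => ?_⟩
  · haveI : IsProper (π ≫ r) := inferInstance
    haveI := Groth.Agent.Chow.isProper_toBase N S
    haveI : IsProper (j ≫ CohB1.ProjSpaceOver.toBase N S) := by rw [hjf]; infer_instance
    haveI : IsProper j := IsProper.of_comp j (CohB1.ProjSpaceOver.toBase N S)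
    exact Groth.Agent.SymAlg.isProjective_of_isHProjective
      ⟨N, j, IsClosedImmersion.of_isPreimmersion j j.isClosedMap.isClosed_range, hjf⟩
  · refine hd.mono ?_
    rintro _ ⟨x, rfl⟩
    show π (t x) ∈ (U : Set X)
    rw [← Scheme.Hom.comp_apply, ht]
    exact x.2
  · haveI : IsReduced U.toScheme := inferInstance
    exact IsSchemeTheoreticallyDominant.isReduced t
  · haveI := hX
    have hne : (U : Set X).Nonempty := hU.nonempty
    haveI : IrreducibleSpace U.toScheme := by
      have h : IsPreirreducible (U : Set X) :=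
        (PreirreducibleSpace.isPreirreducible_univ (X := X)).open_subset U.2 (Set.subset_univ _)
      haveI : PreirreducibleSpace U.toScheme := isPreirreducible_iff_preirreducibleSpace.mp h
      haveI : Nonempty U.toScheme := hne.to_subtype
      exact { toNonempty := inferInstance }
    rw [irreducibleSpace_def, Set.top_eq_univ, ← hd.closure_eq]
    exact (IrreducibleSpace.isIrreducible_univ _).image _ t.continuous.continuousOn |>.closure |> fun h => by
      rwa [Set.image_univ] at h

end Groth.Agent.Chow
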