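import Groth.Agent.Chow.Strata
import Groth.Agent.ProjMor.Segre
import Groth.Agent.TMul.AffineLocus

/-!
A finite disjoint union of subschemes of projective spaces is a subscheme of a projective space.
-/

set_option autoImplicit false
set_option backward.isDefEq.respectTransparency false
set_option linter.style.haveILetI false
set_option linter.unusedSectionVars false

universe u

open CategoryTheory CategoryTheory.Limits AlgebraicGeometry TopologicalSpace Opposite
open Groth.Agent.QC (res resO res_res res_smul app_res)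
open TMul (IsGen val homOf val_homOf)

noncomputable section

namespace Groth.Agent.Chow

variable {S : Scheme.{u}}

lemma genLocus_homOf_zero {X : Scheme.{u}} {L : X.Modules} :
    CohB1.genLocus L (homOf (0 : Γ(L, ⊤))) = ⊥ := by
  have e : homOf (0 : Γ(L, ⊤)) = (0 : Coh.structureModule X ⟶ L) :=
    TMul.hom_ext_val (((val_homOf _ _).trans (map_zero _)))
  rw [e, TMul.genLocus_zero]

/-- Some coordinate is invertible at each point. -/
lemma exists_mem_chart (n : ℕ) (y : CohB1.ProjSpace n (ULift.{u} ℤ)) :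
    ∃ a, y ∈ ProjMor.chart n a := by
  obtain ⟨g, hg, hgx⟩ := ProjMor.exists_notMem (ProjMor.genDegOne_projSpace n (ULift.{u} ℤ)) y
  by_contra hn
  push Not at hn
  obtain ⟨c, rfl⟩ := ProjMor.exists_of_mem_one (ProjMor.linForms_mem n (ULift.{u} ℤ))
    (ProjMor.adjoin_linForms n (ULift.{u} ℤ)) hg
  refine hgx ?_
  rw [ProjMor.linForms, Fintype.linearCombination_apply]
  refine Submodule.sum_mem _ fun a _ => ?_
  rw [Algebra.smul_def]
  refine Ideal.mul_mem_left _ _ ?_
  by_contra hmem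
  exact hn a ((ProjectiveSpectrum.mem_basicOpen _ _ _).mpr hmem)

/-- An immersion into `P^N` moved to a block of coordinates of `P^M`. -/
theorem exists_block {P : Scheme.{u}} {N M : ℕ} (i : P ⟶ CohB1.ProjSpaceOver N S) [IsImmersion i]
    (d : Fin (N + 1) → Fin (M + 1)) (hd : Function.Injective d) :
    ∃ j : P ⟶ CohB1.ProjSpaceOver M S,
      j ≫ CohB1.ProjSpaceOver.toBase M S = i ≫ CohB1.ProjSpaceOver.toBase N S ∧
      (∀ x, ∃ a, j x ∈ ProjMor.pz M S ⁻¹ᵁ ProjMor.chart M (d a) ∧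
        IsImmersion (j ∣_ (ProjMor.pz M S ⁻¹ᵁ ProjMor.chart M (d a)))) ∧
      ∀ c, (∀ a, d a ≠ c) → j ⁻¹ᵁ (ProjMor.pz M S ⁻¹ᵁ ProjMor.chart M c) = ⊥ := by
  classical
  let L := (Scheme.Modules.pullback i).obj (Twist.twistOver N S 1)
  have hL : PicF.IsInvertible L := PicLoc.isInvertible_pullback i
    (ProjMor.isInvertible_pull1 (ProjMor.genDegOne_projSpace N (ULift.{u} ℤ)) (ProjMor.pz N S))
  obtain ⟨s, hs⟩ := ProjMor.exists_coordinate_sections i (Iso.refl L)
  let t : Fin (M + 1) → ProjUP.Γm L := Function.extend d s fun _ => (0 : Γ(L, ⊤))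
  have htd : ∀ a, t (d a) = s a := fun a => hd.extend_apply s _ a
  have ht0 : ∀ c, (∀ a, d a ≠ c) → t c = (0 : Γ(L, ⊤)) := fun c hc =>
    Function.extend_apply' s _ c fun ⟨a, ha⟩ => hc a ha
  have hcov : ∀ x, ∃ a, x ∈ CohB1.genLocus L (homOf (s a)) := fun x => by
    obtain ⟨a, ha⟩ := exists_mem_chart N ((i ≫ ProjMor.pz N S) x)
    exact ⟨a, (hs a).1.ge ha⟩
  obtain ⟨j, hjf, -, hj⟩ := ProjMor.exists_toProjSpaceOver (i ≫ CohB1.ProjSpaceOver.toBase N S) hL t
    (ProjMor.generatedBy_of_mem_genLocus t fun x => by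
      obtain ⟨a, ha⟩ := hcov x
      exact ⟨d a, by rw [htd]; exact ha⟩)
  refine ⟨j, hjf, fun x => ?_, fun c hc => ?_⟩
  · obtain ⟨a, ha⟩ := hcov x
    obtain ⟨hloc, hrat⟩ := hj (d a)
    have hpre : j ⁻¹ᵁ (ProjMor.pz M S ⁻¹ᵁ ProjMor.chart M (d a)) = CohB1.genLocus L (homOf (s a)) :=
      hloc.trans (by rw [htd])
    refine ⟨a, hpre.ge ha, ?_⟩
    have hU : j ⁻¹ᵁ (ProjMor.pz M S ⁻¹ᵁ ProjMor.chart M (d a)) ≤ (i ≫ ProjMor.pz N S) ⁻¹ᵁ ProjMor.chart N a :=
      hpre.le.trans (hs a).1.le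
    refine ProjMor.isImmersion_restrict_of_ratio i j hjf a (d a) d rfl hU fun b => ?_
    have hgen : IsGen (res L (le_top : j ⁻¹ᵁ (ProjMor.pz M S ⁻¹ᵁ ProjMor.chart M (d a)) ≤ ⊤) (s a)) := by
      have := (ProjMor.isGen_homOf (s a)).res hpre.le
      rwa [res_res] at this
    refine (hgen _ le_rfl).1 ?_
    change _ • res L le_rfl (res L le_top (s a)) = _ • res L le_rfl (res L le_top (s a))
    rw [Groth.Agent.QC.res_self]
    have e1 := hrat (d b)
    rw [htd a, htd b] at e1
    refine e1.trans ?_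
    have e4 := congrArg (res L hU) ((hs a).2 b)
    rw [res_smul, res_res, res_res, ProjMor.ev_res] at e4
    exact e4.symm
  · obtain ⟨hloc, -⟩ := hj c
    refine hloc.trans ?_
    rw [ht0 c hc]
    exact genLocus_homOf_zero

lemma exists_ι_eq_coprod {ι : Type u} (P : ι → Scheme.{u}) (z : (∐ P : Scheme.{u})) :
    ∃ k x, Sigma.ι P k x = z := by
  obtain ⟨⟨k, x⟩, rfl⟩ := (sigmaMk P).surjective z
  exact ⟨k, x, (sigmaMk_mk P k x).symm⟩

/-- A finite family of proper maps gives a proper map from the coproduct. -/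
theorem isProper_sigmaDesc {ι : Type u} [Finite ι] {X : Scheme.{u}} [CompactSpace X] [QuasiSeparatedSpace X]
    {P : ι → Scheme.{u}} (π : ∀ k, P k ⟶ X) (hπ : ∀ k, IsProper (π k)) [IsSeparated (Sigma.desc π)] :
    IsProper (Sigma.desc π) := by
  haveI := hπ
  haveI : ∀ k, CompactSpace (P k) := fun k => QuasiCompact.compactSpace_of_compactSpace (π k)
  haveI : CompactSpace (∐ P : Scheme.{u}) := (sigmaMk P).compactSpace
  haveI : LocallyOfFiniteType (Sigma.desc π) := IsZariskiLocalAtSource.sigmaDesc fun k => inferInstance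
  haveI : QuasiCompact (Sigma.desc π) := inferInstance
  haveI : UniversallyClosed (Sigma.desc π) := UniversallyClosed.of_valuativeCriterion _ fun Sq => by
    obtain ⟨k, x, hx⟩ := exists_ι_eq_coprod P (Sq.i₁ default)
    have hr : Set.range Sq.i₁ ⊆ Set.range (Sigma.ι P k) := by
      rintro _ ⟨y, rfl⟩
      rw [Subsingleton.elim y default]
      exact ⟨x, hx⟩
    let i₁' := IsOpenImmersion.lift (Sigma.ι P k) Sq.i₁ hr
    have h1 : i₁' ≫ Sigma.ι P k = Sq.i₁ := IsOpenImmersion.lift_fac _ _ _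
    have hex : ValuativeCriterion.Existence (π k) := by
      have h0 : UniversallyClosed (π k) := inferInstance
      rw [UniversallyClosed.eq_valuativeCriterion] at h0
      exact h0.1
    let Sq' : ValuativeCommSq (π k) :=
      { R := Sq.R
        K := Sq.K
        i₁ := i₁'
        i₂ := Sq.i₂
        commSq := ⟨by rw [← Sigma.ι_desc π k, ← Category.assoc, h1]; exact Sq.commSq.w⟩ }
    obtain ⟨⟨l⟩⟩ := hex Sq'
    exact CommSq.HasLift.mk' ⟨l.l ≫ Sigma.ι P k, by rw [← Category.assoc, l.fac_left]; exact h1,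
      by rw [Category.assoc, Sigma.ι_desc]; exact l.fac_right⟩
  exact { }

/-- A morphism from a finite coproduct is an immersion if each component is, near opens missed by the
other components. -/
theorem isImmersion_sigmaDesc {ι : Type u} (P : ι → Scheme.{u}) {T : Scheme.{u}} (j : ∀ k, P k ⟶ T)
    (h : ∀ k x, ∃ W : T.Opens, j k x ∈ W ∧ IsImmersion (j k ∣_ W) ∧ ∀ l, l ≠ k → j l ⁻¹ᵁ W = ⊥) :
    IsImmersion (Sigma.desc j) := by
  refine ProjMor.isImmersion_of_forall _ fun z => ?_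
  obtain ⟨k, x, rfl⟩ := exists_ι_eq_coprod P z
  obtain ⟨W, hxW, hW, hoth⟩ := h k x
  have e : Sigma.ι P k ≫ Sigma.desc j = j k := Sigma.ι_desc _ _
  have happ : ∀ l y, Sigma.desc j (Sigma.ι P l y) = j l y := fun l y => by
    rw [← Scheme.Hom.comp_apply, Sigma.ι_desc]
  refine ⟨W, (happ k x) ▸ hxW, ?_⟩
  let V := Sigma.desc j ⁻¹ᵁ W
  haveI : Surjective (Sigma.ι P k ∣_ V) := ⟨fun v => by
    obtain ⟨l, y, hy⟩ := exists_ι_eq_coprod P v.1
    have hyW : j l y ∈ W := by
      rw [← happ, hy]; exact v.2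
    by_cases hl : l = k
    · subst hl
      exact ⟨⟨y, by change Sigma.ι P l y ∈ V; rw [hy]; exact v.2⟩, Subtype.ext (by
        change ((Sigma.ι P l ∣_ V) ≫ V.ι) ⟨y, _⟩ = v.1
        rw [morphismRestrict_ι]
        exact hy)⟩
    · exact absurd (show y ∈ (⊥ : (P l).Opens) from hoth l hl ▸ hyW) (fun h => h.elim)⟩
  haveI : IsIso (Sigma.ι P k ∣_ V) := isIso_of_isOpenImmersion_of_opensRange_eq_top _
    (Opens.ext (Set.range_eq_univ.2 (Surjective.surj (f := Sigma.ι P k ∣_ V))))
  have h2 : IsImmersion ((Sigma.ι P k ≫ Sigma.desc j) ∣_ W) := by rw [e]; exact hW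
  rw [morphismRestrict_comp] at h2
  exact (MorphismProperty.cancel_left_of_respectsIso @IsImmersion (Sigma.ι P k ∣_ V) _).mp h2

/-- Chow's lemma with a single projective space. -/
theorem exists_chow_single {X : Scheme.{u}} (f : X ⟶ S) [IsSeparated f] [LocallyOfFiniteType f]
    [CompactSpace X] [QuasiSeparatedSpace X] :
    ∃ (n : ℕ) (X' : Scheme.{u}) (π : X' ⟶ X) (j : X' ⟶ CohB1.ProjSpaceOver n S),
      IsImmersion j ∧ j ≫ CohB1.ProjSpaceOver.toBase n S = π ≫ f ∧ IsProper π ∧ Surjective π := by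
  classical
  obtain ⟨ι, hι, N, P, π, i, hi, hif, hπ, hsurj⟩ := exists_chow_cover f
  haveI : Fintype ι := Fintype.ofFinite ι
  let B := Σ k : ι, Fin (N k + 1)
  let e : B ≃ Fin (Fintype.card B) := Fintype.equivFin B
  let M := Fintype.card B
  let d : ∀ k, Fin (N k + 1) → Fin (M + 1) := fun k a => (e ⟨k, a⟩).castSucc
  have hd : ∀ k, Function.Injective (d k) := fun k a b hab => by
    have := e.injective (Fin.castSucc_injective _ hab)
    exact eq_of_heq (Sigma.mk.inj_iff.mp this).2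
  have hne : ∀ k l a, l ≠ k → ∀ b, d l b ≠ d k a := fun k l a hlk b hab => by
    have := e.injective (Fin.castSucc_injective _ hab)
    exact hlk (congrArg Sigma.fst this)
  choose j hjf hjimm hjbot using fun k => haveI := hi k; exists_block (i k) (d k) (hd k)
  refine ⟨M, ∐ P, Sigma.desc π, Sigma.desc j, isImmersion_sigmaDesc P j fun k x => ?_, ?_, ?_, ?_⟩
  · obtain ⟨a, ha, himm⟩ := hjimm k x
    exact ⟨_, ha, himm, fun l hl => hjbot l _ (hne k l a hl)⟩
  · refine Sigma.hom_ext _ _ fun k => ?_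
    rw [Sigma.ι_desc_assoc, Sigma.ι_desc_assoc, hjf, hif]
  · have himm : IsImmersion (Sigma.desc j) := isImmersion_sigmaDesc P j fun k x => by
      obtain ⟨a, ha, himm⟩ := hjimm k x
      exact ⟨_, ha, himm, fun l hl => hjbot l _ (hne k l a hl)⟩
    haveI : IsSeparated (Sigma.desc π ≫ f) := by
      haveI := himm
      haveI := Groth.Agent.Chow.isProper_toBase M S
      rw [show Sigma.desc π ≫ f = Sigma.desc j ≫ CohB1.ProjSpaceOver.toBase M S from
        Sigma.hom_ext _ _ fun k => by rw [Sigma.ι_desc_assoc, Sigma.ι_desc_assoc, hjf, hif]]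
      infer_instance
    haveI : IsSeparated (Sigma.desc π) := IsSeparated.of_comp _ f
    exact isProper_sigmaDesc π hπ
  · refine ⟨fun x => ?_⟩
    obtain ⟨k, p, hp⟩ := hsurj x
    exact ⟨Sigma.ι P k p, by rw [← Scheme.Hom.comp_apply, Sigma.ι_desc]; exact hp⟩

end Groth.Agent.Chow
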