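import Groth.Agent.Chow.Proj
import Groth.Agent.Chow.Std

/-!
Chow's lemma without Noetherian or irreducibility hypotheses, iso over some nonempty open.
-/

universe u

open CategoryTheory Limits Opposite TopologicalSpace AlgebraicGeometry

set_option backward.isDefEq.respectTransparency false
set_option linter.style.haveILetI false

noncomputable section

namespace Groth.Agent.Chow

variable {X S : Scheme.{u}}

/-- Chow's lemma over a nonempty open. -/
theorem exists_chow_variant (f : X ⟶ S) [IsSeparated f] [LocallyOfFiniteType f] [QuasiCompact f]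
    [CompactSpace X] [QuasiSeparatedSpace X] [Nonempty X] :
    ∃ (Xbar : Scheme.{u}) (π : Xbar ⟶ X), RelProj.IsProjective π ∧ RelProj.IsQuasiProjective (π ≫ f) ∧
      ∃ U : X.Opens, (U : Set X).Nonempty ∧ IsIso (π ∣_ U) := by
  classical
  choose V hV hfx hV' using fun x : X =>
    exists_isAffineOpen_mem_and_subset (x := f.base x) (U := (⊤ : S.Opens)) trivial
  choose A hA hxA hAV using fun x : X =>
    exists_isAffineOpen_mem_and_subset (x := x) (U := f ⁻¹ᵁ V x) (hfx x)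
  obtain ⟨T, hT⟩ := isCompact_univ.elim_finite_subcover (fun x : X => (A x : Set X)) (fun x => (A x).2)
    (fun x _ => Set.mem_iUnion.mpr ⟨x, hxA x⟩)
  -- a maximal subfamily with nonempty intersection
  let G : Finset (Finset T) := Finset.univ.filter fun J =>
    ((J.inf fun t : T => A t.1 : X.Opens) : Set X).Nonempty
  obtain ⟨x₀⟩ := (inferInstance : Nonempty X)
  have hG : G.Nonempty := ⟨∅, Finset.mem_filter.mpr ⟨Finset.mem_univ _, x₀, by simp⟩⟩
  obtain ⟨J, hJG, hJmax⟩ := G.exists_maximal hG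
  obtain ⟨x₁, hx₁⟩ := (Finset.mem_filter.mp hJG).2
  obtain ⟨U, hU, hxU, hUle⟩ := exists_isAffineOpen_mem_and_subset (x := x₁)
    (U := (J.inf fun t : T => A t.1 : X.Opens)) hx₁
  have hUA : ∀ t ∈ J, U ≤ A (t : T).1 := fun t ht y hy => (Finset.inf_le (f := fun t : T => A t.1) ht) (hUle hy)
  have hout : ∀ (t : T) (y : X), y ∈ U → y ∈ A t.1 → t ∈ J := fun t y hyU hyA => by
    by_contra ht
    have hmem : insert t J ∈ G := Finset.mem_filter.mpr ⟨Finset.mem_univ _, y, by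
      rw [Finset.inf_insert]; exact ⟨hyA, hUle hyU⟩⟩
    exact ht (hJmax hmem (Finset.subset_insert t J) (Finset.mem_insert_self t J))
  have : QuasiCompact U.ι := by
    refine ⟨fun O hO hOc => ?_⟩
    rw [U.ι.isOpenEmbedding.isInducing.isCompact_iff, Set.image_preimage_eq_inter_range, Scheme.Opens.range_ι]
    exact hOc.inter_of_isOpen hU.isCompact hO U.2
  let Z : Scheme.{u} := U.ι.image
  let ι : Z ⟶ X := U.ι.imageι
  let s : U.toScheme ⟶ Z := U.ι.toImage
  have hsι : s ≫ ι = U.ι := U.ι.toImage_imageι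
  haveI : CompactSpace Z := QuasiCompact.compactSpace_of_compactSpace ι
  haveI : QuasiSeparatedSpace Z := quasiSeparatedSpace_of_quasiSeparated ι
  have hιU : Dense ((ι ⁻¹ᵁ U : Z.Opens) : Set Z) := by
    refine (inferInstance : IsDominant s).denseRange.mono ?_
    rintro _ ⟨y, rfl⟩
    show ι (s y) ∈ (U : Set X)
    rw [← Scheme.Hom.comp_apply, hsι]
    exact y.2
  have hcov : ∀ z : Z, ∃ t ∈ J, ι z ∈ A (t : T).1 := fun z => by
    obtain ⟨t, ht, hzt⟩ := Set.mem_iUnion₂.mp (hT (Set.mem_univ (ι z)))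
    obtain ⟨w, hwt, hwU⟩ := hιU.inter_open_nonempty _ (ι ⁻¹ᵁ A t).2 ⟨z, hzt⟩
    exact ⟨⟨t, ht⟩, hout ⟨t, ht⟩ _ hwU hwt, hzt⟩
  have hJne : J.Nonempty := by
    obtain ⟨t, ht, hxt⟩ := Set.mem_iUnion₂.mp (hT (Set.mem_univ x₁))
    exact ⟨⟨t, ht⟩, hout ⟨t, ht⟩ _ hxU hxt⟩
  obtain ⟨m, hm⟩ : ∃ m, J.card = m + 1 := ⟨J.card - 1, by have := hJne.card_pos; omega⟩
  let e : Fin (m + 1) ≃ J := (finCongr hm.symm).trans J.equivFin.symm
  let W : Fin (m + 1) → Z.Opens := fun i => ι ⁻¹ᵁ A (e i).1.1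
  have hWa : ∀ i, IsAffineOpen (W i) := fun i => (hA _).preimage ι
  have him : ∀ i, ∃ (n : ℕ) (k : (W i).toScheme ⟶ CohB1.ProjSpaceOver n S), IsImmersion k ∧
      k ≫ CohB1.ProjSpaceOver.toBase n S = (W i).ι ≫ ι ≫ f := fun i => by
    refine exists_immersion_of_pieces ((W i).ι ≫ ι ≫ f) (fun _ : PUnit.{u + 1} => (⊤ : (W i).toScheme.Opens))
      (fun _ => V (e i).1.1) (iSup_const) (fun a b h => (h (Subsingleton.elim a b)).elim) ?_
      (fun _ => hV _) ?_
    · intro _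
      haveI : IsAffine (W i).toScheme := hWa i
      exact isAffineOpen_top _
    · intro _ y _
      exact hAV _ y.2
  choose n k hk hkf using him
  let U' : Z.Opens := ι ⁻¹ᵁ U
  have : QuasiCompact U'.ι := by
    refine ⟨fun O hO hOc => ?_⟩
    rw [U'.ι.isOpenEmbedding.isInducing.isCompact_iff, Set.image_preimage_eq_inter_range, Scheme.Opens.range_ι]
    exact hOc.inter_of_isOpen (hU.preimage ι).isCompact hO U'.2
  obtain ⟨N, P, π, j, hj, hjf, hπ, -, hiso, -⟩ := exists_chow_of_cover (ι ≫ f) W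
    (fun z => by
      obtain ⟨t, ht, hzt⟩ := hcov z
      refine ⟨e.symm ⟨t, ht⟩, ?_⟩
      show ι z ∈ A (e (e.symm ⟨t, ht⟩)).1.1
      rwa [e.apply_symm_apply])
    n k hk hkf U' (fun i y hy => hUA _ (e i).2 hy) hιU
  haveI := hπ
  haveI : IsProper (π ≫ ι) := inferInstance
  have hjf' : j ≫ CohB1.ProjSpaceOver.toBase N S = (π ≫ ι) ≫ f := by rw [hjf, Category.assoc]
  refine ⟨P, π ≫ ι, isProjective_of_immersion (π ≫ ι) f j hjf',
    isQuasiProjective_of_immersion _ j hjf', U, ⟨x₁, hxU⟩, ?_⟩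
  haveI : IsIso (ι ∣_ U) := by
    let s' : U.toScheme ⟶ (ι ⁻¹ᵁ U).toScheme := IsOpenImmersion.lift (ι ⁻¹ᵁ U).ι s (by
      rw [Scheme.Opens.range_ι]
      rintro _ ⟨y, rfl⟩
      show ι (s y) ∈ (U : Set X)
      rw [← Scheme.Hom.comp_apply, hsι]
      exact y.2)
    haveI : IsSplitEpi (ι ∣_ U) := IsSplitEpi.mk' ⟨s', by
      rw [← cancel_mono U.ι, Category.assoc, morphismRestrict_ι, IsOpenImmersion.lift_fac_assoc, hsι,
        Category.id_comp]⟩
    exact isIso_of_mono_of_isSplitEpi _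
  haveI : IsIso (π ∣_ ι ⁻¹ᵁ U) := hiso
  rw [morphismRestrict_comp]
  infer_instance

end Groth.Agent.Chow
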